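import Groth.Agent.Lambda.Pos

/-!
# Adams operations of a twist by a line element
-/

set_option autoImplicit false
set_option linter.unusedSectionVars false

universe v

open PowerSeries Finset LambdaRing

namespace Groth.Agent.Lambda7

open Groth.Agent.Lambda

variable {K : Type v} [CommRing K] [LambdaOps K] (P : PosStructure K)

theorem derivative_rescale (u : K) (f : PowerSeries K) :
    PowerSeries.derivative K (rescale u f) = C u * rescale u (PowerSeries.derivative K f) := by
  ext n
  rw [coeff_C_mul, PowerSeries.coeff_derivative, coeff_rescale, coeff_rescale, PowerSeries.coeff_derivative, pow_succ]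
  ring

theorem adams_mul_line {e u : K} (hu : P.aug u = 1)
    (htw : ∀ i, LambdaOps.lam i (e * u) = LambdaOps.lam i e * u ^ i) {j : ℕ} (hj : 1 ≤ j) :
    adams P j (e * u) = adams P j e * u ^ j := by
  have hneg : negLamSeries (e * u) = rescale u (negLamSeries e) := by
    ext n
    simp only [negLamSeries, coeff_rescale, coeff_lamSeries, htw]
    ring
  have hD : dlogNeg (e * u) = C u * rescale u (dlogNeg e) := by
    refine dlogNeg_eq_of_mul_eq ?_
    rw [hneg, derivative_rescale, ← dlogNeg_mul_self e, map_mul, mul_assoc]
  obtain ⟨i, rfl⟩ : ∃ i, j = i + 1 := ⟨j - 1, by omega⟩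
  simp only [adams, adamsSeries_eq, map_sub, PowerSeries.coeff_succ_X_mul, hD, coeff_C_mul, coeff_rescale,
    PowerSeries.coeff_C, if_neg (Nat.succ_ne_zero i)]
  ring

end Groth.Agent.Lambda7
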