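import Mathlib.RingTheory.PowerSeries.Derivative
import Mathlib.RingTheory.PowerSeries.Inverse
import Mathlib.Algebra.Ring.GeomSum

/-!
# The invariance of the residue under a change of variable, and the identity behind Adams–Riemann–Roch for `P^n`
-/

set_option autoImplicit false

universe v

open PowerSeries Finset

namespace Groth.Agent.Lambda7

variable {R : Type v} [CommRing R] [IsAddTorsionFree R]

theorem coeff_residue_aux (Φ Ψ : PowerSeries R) (h : Φ * Ψ = 1) (k : ℕ) :
    coeff k ((Φ + X * PowerSeries.derivative R Φ) * Ψ ^ (k + 1)) = if k = 0 then 1 else 0 := by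
  rw [add_mul, map_add, mul_assoc X, pow_succ', ← mul_assoc Φ Ψ, h, one_mul]
  rcases k with _ | k
  · simp
  rw [PowerSeries.coeff_succ_X_mul, if_neg (Nat.succ_ne_zero k)]
  have hΨ : PowerSeries.derivative R Ψ = -(Ψ * Ψ * PowerSeries.derivative R Φ) := by
    have h' := congrArg (PowerSeries.derivative R) h
    rw [Derivation.leibniz, smul_eq_mul, smul_eq_mul, Derivation.map_one_eq_zero] at h'
    linear_combination (Ψ : PowerSeries R) * h' - PowerSeries.derivative R Ψ * h
  have hp : PowerSeries.derivative R (Ψ ^ (k + 1)) +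
      (((k + 1 : ℕ) : PowerSeries R)) * (PowerSeries.derivative R Φ * (Ψ * Ψ ^ (k + 1))) = 0 := by
    rw [Derivation.leibniz_pow, hΨ, Nat.add_sub_cancel, nsmul_eq_mul, smul_eq_mul, pow_succ]
    ring
  have hk := congrArg (coeff k) hp
  rw [map_add, PowerSeries.coeff_derivative, ← nsmul_eq_mul, map_nsmul, map_zero, nsmul_eq_mul] at hk
  refine (nsmul_eq_zero_iff_right (Nat.succ_ne_zero k)).1 ?_
  rw [nsmul_eq_mul]
  push_cast at hk ⊢
  linear_combination hk

theorem coeff_residue (Φ Ψ : PowerSeries R) (h : Φ * Ψ = 1) (n m : ℕ) :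
    coeff n (PowerSeries.derivative R (X * Φ) * (X * Φ) ^ m * Ψ ^ (n + 1)) = if m = n then 1 else 0 := by
  rcases le_or_gt m n with hm | hm
  · obtain ⟨k, rfl⟩ := Nat.exists_eq_add_of_le hm
    rw [show PowerSeries.derivative R (X * Φ) * (X * Φ) ^ m * Ψ ^ (m + k + 1) =
      X ^ m * ((Φ + X * PowerSeries.derivative R Φ) * Ψ ^ (k + 1)) by
        rw [Derivation.leibniz, PowerSeries.derivative_X, mul_pow, show m + k + 1 = m + (k + 1) by omega, pow_add,
          smul_eq_mul, smul_eq_mul]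
        have hm' : Φ ^ m * Ψ ^ m = 1 := by rw [← mul_pow, h, one_pow]
        linear_combination ((X : PowerSeries R) ^ m * (Φ + X * PowerSeries.derivative R Φ) * Ψ ^ (k + 1)) * hm',
      add_comm m k, PowerSeries.coeff_X_pow_mul, coeff_residue_aux Φ Ψ h]
    exact if_congr (by omega) rfl rfl
  · rw [if_neg (by omega), show PowerSeries.derivative R (X * Φ) * (X * Φ) ^ m * Ψ ^ (n + 1) =
      X ^ m * (PowerSeries.derivative R (X * Φ) * Φ ^ m * Ψ ^ (n + 1)) by rw [mul_pow]; ring,
      PowerSeries.coeff_X_pow_mul', if_neg (by omega)]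

/-- `[X^n] (1+X)^n · j (1+X)^{aj} · (Φ (1+X)^{-(j-1)})^{-(n+1)} = C(n+a, n)`, `Φ = ((1+X)^j - 1)/X`. -/
theorem coeff_adams_projSpace (n a j : ℕ) (hj : 1 ≤ j) (Θ : PowerSeries R)
    (hΘ : Θ * (∑ k ∈ range j, (1 + X : PowerSeries R) ^ k) ^ (n + 1) = (1 + X) ^ ((j - 1) * (n + 1)))
    (hj' : IsUnit (j : R)) :
    coeff n ((1 + X) ^ n * ((j : PowerSeries R) * ((1 + X) ^ (a * j) * Θ))) = (Nat.choose (n + a) n : R) := by
  set Φ : PowerSeries R := ∑ k ∈ range j, (1 + X : PowerSeries R) ^ k with hΦ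
  have hu : IsUnit Φ := by
    rw [PowerSeries.isUnit_iff_constantCoeff, hΦ, map_sum]
    simpa using hj'
  obtain ⟨Ψ, hΨ⟩ := hu.exists_right_inv
  have hw : X * Φ + 1 = (1 + X : PowerSeries R) ^ j := by
    have := geom_sum_mul (1 + X : PowerSeries R) j
    rw [add_sub_cancel_left] at this
    rw [mul_comm, hΦ, this, sub_add_cancel]
  have hd : PowerSeries.derivative R (X * Φ) = (j : PowerSeries R) * (1 + X) ^ (j - 1) := by
    have h1 : PowerSeries.derivative R (X * Φ) = PowerSeries.derivative R ((1 + X : PowerSeries R) ^ j) := by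
      rw [← hw, map_add, Derivation.map_one_eq_zero, add_zero]
    rw [h1, Derivation.leibniz_pow, map_add, Derivation.map_one_eq_zero, PowerSeries.derivative_X, zero_add,
      nsmul_eq_mul, smul_eq_mul, mul_one]
  have hone : Φ ^ (n + 1) * Ψ ^ (n + 1) = 1 := by rw [← mul_pow, hΨ, one_pow]
  have hΘ' : Θ = (1 + X) ^ ((j - 1) * (n + 1)) * Ψ ^ (n + 1) := by
    rw [← hΘ, mul_assoc, hone, mul_one]
  have key : (1 + X) ^ n * ((j : PowerSeries R) * ((1 + X) ^ (a * j) * Θ)) =
      PowerSeries.derivative R (X * Φ) * (X * Φ + 1) ^ (a + n) * Ψ ^ (n + 1) := by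
    rw [hd, hw, hΘ', ← pow_mul]
    obtain ⟨c, rfl⟩ : ∃ c, j = c + 1 := ⟨j - 1, by omega⟩
    rw [Nat.add_sub_cancel]
    ring
  rw [key, add_pow, mul_sum, sum_mul, map_sum]
  simp only [one_pow, mul_one]
  refine (Finset.sum_eq_single n (fun m _ hm => ?_) fun h => absurd (mem_range.2 (by omega)) h).trans ?_
  · rw [← mul_assoc, mul_right_comm, ← map_natCast (C (R := R)) ((a + n).choose m), mul_comm _ (C _), coeff_C_mul,
      coeff_residue Φ Ψ hΨ, if_neg hm, mul_zero]
  · rw [← mul_assoc, mul_right_comm, ← map_natCast (C (R := R)) ((a + n).choose n), mul_comm _ (C _), coeff_C_mul,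
      coeff_residue Φ Ψ hΨ, if_pos rfl, mul_one, add_comm a n]

end Groth.Agent.Lambda7
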