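import Groth.Agent.Lambda.GammaPoly
import Groth.Agent.Lambda.Filtration

/-!
# The γ-filtration of a ring generated over another by a line element
-/

set_option autoImplicit false
set_option linter.unusedSectionVars false

universe v

open PowerSeries Finset LambdaRing

namespace Groth.Agent.Lambda7

open Groth.Agent.Lambda

variable {K L : Type v} [CommRing K] [LambdaOps K] [CommRing L] [LambdaOps L]
  (P : PosStructure K) (q : K →+* L) (u : L)

/-- The subgroup generated by `(u-1)^i q(F^{k-i})`. -/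
def Fil (k : ℕ) : AddSubgroup L :=
  AddSubgroup.closure {z | ∃ (i : ℕ) (y : K), y ∈ gammaFiltration P (k - i) ∧ z = (u - 1) ^ i * q y}

variable {P q u}

theorem gen_mem {k i : ℕ} {y : K} (hy : y ∈ gammaFiltration P (k - i)) : (u - 1) ^ i * q y ∈ Fil P q u k :=
  AddSubgroup.subset_closure ⟨i, y, hy, rfl⟩

theorem Fil_anti {k m : ℕ} (h : k ≤ m) : Fil P q u m ≤ Fil P q u k :=
  (AddSubgroup.closure_le _).2 <| by
    rintro _ ⟨i, y, hy, rfl⟩
    exact gen_mem (gammaFiltration_anti (by omega) hy)

theorem Fil_mul {k m : ℕ} {a b : L} (ha : a ∈ Fil P q u k) (hb : b ∈ Fil P q u m) :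
    a * b ∈ Fil P q u (k + m) := by
  unfold Fil at ha hb
  induction ha using AddSubgroup.closure_induction with
  | mem a ha =>
    induction hb using AddSubgroup.closure_induction with
    | mem b hb =>
      obtain ⟨i, y, hy, rfl⟩ := ha
      obtain ⟨j, z, hz, rfl⟩ := hb
      rw [show (u - 1) ^ i * q y * ((u - 1) ^ j * q z) = (u - 1) ^ (i + j) * q (y * z) by rw [map_mul, pow_add]; ring]
      exact gen_mem (gammaFiltration_anti (by omega) (mul_mem_add hy hz))
    | zero => rw [mul_zero]; exact zero_mem _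
    | add x y _ _ hx hy => rw [mul_add]; exact add_mem hx hy
    | neg x _ hx => rw [mul_neg]; exact neg_mem hx
  | zero => rw [zero_mul]; exact zero_mem _
  | add x y _ _ hx hy => rw [add_mul]; exact add_mem hx hy
  | neg x _ hx => rw [neg_mul]; exact neg_mem hx

theorem Fil_mul0 {k : ℕ} {a b : L} (ha : a ∈ Fil P q u k) (hb : b ∈ Fil P q u 0) : a * b ∈ Fil P q u k :=
  Nat.add_zero k ▸ Fil_mul ha hb

theorem map_mem {k : ℕ} {y : K} (hy : y ∈ gammaFiltration P k) : q y ∈ Fil P q u k := by
  have := gen_mem (q := q) (u := u) (i := 0) (k := k) (y := y) (by simpa using hy)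
  simpa using this

theorem one_mem : (1 : L) ∈ Fil P q u 0 := by
  have := map_mem (q := q) (u := u) (k := 0) (y := (1 : K)) (P := P) (by simp [gammaFiltration_zero])
  simpa using this

theorem sub_one_mem : u - 1 ∈ Fil P q u 1 := by
  have := gen_mem (P := P) (q := q) (u := u) (k := 1) (i := 1) (y := (1 : K)) (by simp [gammaFiltration_zero])
  simpa using this

theorem self_mem : u ∈ Fil P q u 0 := by
  have := add_mem (Fil_anti (Nat.zero_le 1) (sub_one_mem (P := P) (q := q) (u := u))) one_mem
  simpa using this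

theorem pow_mem0 : ∀ a : ℕ, u ^ a ∈ Fil P q u 0
  | 0 => by rw [pow_zero]; exact one_mem
  | a + 1 => by rw [pow_succ]; exact Fil_mul0 (pow_mem0 a) self_mem

theorem pow_sub_one_mem : ∀ a : ℕ, u ^ a - 1 ∈ Fil P q u 1
  | 0 => by rw [pow_zero, sub_self]; exact zero_mem _
  | a + 1 => by
    rw [show u ^ (a + 1) - 1 = (u ^ a - 1) * u + (u - 1) by ring]
    exact add_mem (Fil_mul0 (pow_sub_one_mem a) self_mem) sub_one_mem

variable (P q u) in
/-- Series with `r`-th coefficient in the `r`-th step. -/
def series : Subring (PowerSeries L) where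
  carrier := {f | ∀ r, coeff r f ∈ Fil P q u r}
  zero_mem' r := by rw [map_zero]; exact zero_mem _
  one_mem' r := by
    rw [coeff_one]
    split_ifs with h
    · subst h; exact one_mem
    · exact zero_mem _
  add_mem' {f g} hf hg r := by rw [map_add]; exact add_mem (hf r) (hg r)
  neg_mem' {f} hf r := by rw [map_neg]; exact neg_mem (hf r)
  mul_mem' {f g} hf hg r := by
    rw [coeff_mul]
    refine sum_mem fun ij hij => ?_
    rw [← Finset.mem_antidiagonal.1 hij]
    exact Fil_mul (hf ij.1) (hg ij.2)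

theorem series_inv {f g : PowerSeries L} (hf : f ∈ series P q u) (h0 : constantCoeff f = 1) (h : f * g = 1) :
    g ∈ series P q u := fun r => by
  induction r using Nat.strong_induction_on with
  | _ r ih =>
    have h' := congrArg (coeff r) h
    rw [coeff_mul, Finset.Nat.sum_antidiagonal_eq_sum_range_succ (fun i j => coeff i f * coeff j g),
      Finset.sum_range_succ', coeff_zero_eq_constantCoeff_apply, h0, one_mul, Nat.sub_zero] at h'
    rw [eq_sub_of_add_eq' h']
    refine sub_mem ?_ (sum_mem fun i hi => ?_)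
    · rw [coeff_one]
      split_ifs with hr
      · subst hr; exact one_mem
      · exact zero_mem _
    · have hir := Finset.mem_range.1 hi
      have := Fil_mul (hf (i + 1)) (ih (r - (i + 1)) (by omega))
      rwa [Nat.add_sub_cancel' (by omega : i + 1 ≤ r)] at this

theorem C_mul_X_pow_mem {a : L} {j : ℕ} (ha : a ∈ Fil P q u j) : C a * X ^ j ∈ series P q u := fun r => by
  rw [coeff_C_mul_X_pow]
  split_ifs with h
  · subst h; exact ha
  · exact zero_mem _

variable (Q : PosStructure L) (haug : ∀ x, Q.aug (q x) = P.aug x)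
  (hgam : ∀ k x, q (LambdaRing.gamma k x) = LambdaRing.gamma k (q x))
  (hu : ∀ a : ℕ, Q.aug (u ^ a) = 1)
  (hpos : ∀ e ∈ P.pos, ∀ a : ℕ, q e * u ^ a ∈ Q.pos)
  (htw : ∀ e ∈ P.pos, ∀ (a i : ℕ), LambdaOps.lam i (q e * u ^ a) = q (LambdaOps.lam i e) * (u ^ a) ^ i)

include haug hgam hu hpos htw

theorem gammaSeries_twist_mem {e : K} (he : e ∈ P.pos) (a : ℕ) :
    gammaSeries (q e * u ^ a - ((P.aug e).toNat : L)) ∈ series P q u := by
  set n := (P.aug e).toNat with hn
  set w := u ^ a
  set y := e - (n : K) with hy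
  have hz : Q.aug (q e * w) = P.aug e := by rw [map_mul, haug, hu, mul_one]
  have h1 := gamma_sub_natCast (hpos e he a) 0
  rw [hz, ← hn] at h1
  simp only [htw e he a] at h1
  rw [h1]
  let W : PowerSeries L := C w * X
  obtain ⟨T, hT⟩ : IsUnit (1 + C (w - 1) * X : PowerSeries L) := by
    rw [PowerSeries.isUnit_iff_constantCoeff]
    simp
  let Q₁ : Polynomial K :=
    ∑ k ∈ range (n + 1), Polynomial.C (LambdaOps.lam k e) * (Polynomial.X ^ k * (1 - Polynomial.X) ^ (n - k))
  let Q₂ : Polynomial K := ∑ j ∈ range (n + 1), Polynomial.C (LambdaRing.gamma j y) * Polynomial.X ^ j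
  have hcoe : (Q₁ : PowerSeries K) = gammaSeries y := by
    rw [hy, hn, gamma_sub_natCast he 0]
    simp only [Q₁, ← hn]
    rw [← Polynomial.coeToPowerSeries.ringHom_apply, map_sum]
    refine sum_congr rfl fun k _ => ?_
    simp [Polynomial.coe_C, Polynomial.coe_X]
  have hdeg : Q₁.natDegree ≤ n := by
    refine Polynomial.natDegree_sum_le_of_forall_le _ _ fun k hk => ?_
    have hk' := Finset.mem_range.1 hk
    refine (Polynomial.natDegree_C_mul_le _ _).trans ((Polynomial.natDegree_mul_le).trans ?_)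
    have h1 : (Polynomial.X ^ k : Polynomial K).natDegree ≤ k := Polynomial.natDegree_X_pow_le k
    have h2 : ((1 - Polynomial.X) ^ (n - k) : Polynomial K).natDegree ≤ (n - k) * 1 :=
      (Polynomial.natDegree_pow_le).trans (Nat.mul_le_mul_left _
        ((Polynomial.natDegree_sub_le _ _).trans (by simp [Polynomial.natDegree_X_le])))
    omega
  have hQ : Q₁ = Q₂ := by
    ext j
    simp only [Q₂, Polynomial.finsetSum_coeff, Polynomial.coeff_C_mul_X_pow, Finset.sum_ite_eq, Finset.mem_range]
    split_ifs with hj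
    · rw [← coeff_gammaSeries, ← hcoe, Polynomial.coeff_coe]
    · exact Polynomial.coeff_eq_zero_of_natDegree_lt (by omega)
  have hev := congrArg (fun R : Polynomial K =>
    (T : PowerSeries L) ^ n * R.eval₂ ((C : L →+* PowerSeries L).comp q) (W * (↑(T⁻¹) : PowerSeries L))) hQ
  simp only [Q₁, Q₂, Polynomial.eval₂_finsetSum, Polynomial.eval₂_mul, Polynomial.eval₂_C, Polynomial.eval₂_pow,
    Polynomial.eval₂_sub, Polynomial.eval₂_X, Polynomial.eval₂_one, RingHom.comp_apply, mul_sum] at hev
  have hTW : (T : PowerSeries L) - W = 1 - X := by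
    rw [hT, map_sub, map_one]; ring
  have key : ∀ (c : L) (k : ℕ), k ≤ n →
      (T : PowerSeries L) ^ n * (C c * ((W * (↑(T⁻¹) : PowerSeries L)) ^ k * (1 - W * (↑(T⁻¹) : PowerSeries L)) ^ (n - k))) =
        C (c * w ^ k) * (X ^ k * (1 - X) ^ (n - k)) := fun c k hk => by
    rw [show (T : PowerSeries L) ^ n = (T : PowerSeries L) ^ k * (T : PowerSeries L) ^ (n - k) by
        rw [← pow_add, Nat.add_sub_cancel' hk],
      show (T : PowerSeries L) ^ k * (T : PowerSeries L) ^ (n - k) * (C c * ((W * (↑(T⁻¹) : PowerSeries L)) ^ k * (1 - W * (↑(T⁻¹) : PowerSeries L)) ^ (n - k))) =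
        C c * (((T : PowerSeries L) * (W * (↑(T⁻¹) : PowerSeries L))) ^ k * ((T : PowerSeries L) * (1 - W * (↑(T⁻¹) : PowerSeries L))) ^ (n - k)) by
        rw [mul_pow (T : PowerSeries L) (W * (↑(T⁻¹) : PowerSeries L)), mul_pow (T : PowerSeries L) (1 - W * (↑(T⁻¹) : PowerSeries L))]; ring,
      show (T : PowerSeries L) * (W * (↑(T⁻¹) : PowerSeries L)) = W by rw [mul_left_comm, Units.mul_inv, mul_one],
      show (T : PowerSeries L) * (1 - W * (↑(T⁻¹) : PowerSeries L)) = 1 - X by
        rw [mul_sub, mul_one, mul_left_comm, Units.mul_inv, mul_one, hTW],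
      map_mul, map_pow, mul_pow]
    ring
  rw [Finset.sum_congr rfl fun k hk => key _ k (Nat.lt_succ_iff.1 (Finset.mem_range.1 hk))] at hev
  rw [hev]
  refine sum_mem fun j hj => ?_
  have hjn : j ≤ n := Nat.lt_succ_iff.1 (Finset.mem_range.1 hj)
  have e' : (T : PowerSeries L) ^ n * (C (q (LambdaRing.gamma j y)) * (W * (↑(T⁻¹) : PowerSeries L)) ^ j) =
      C (q (LambdaRing.gamma j y) * w ^ j) * X ^ j * (T : PowerSeries L) ^ (n - j) := by
    rw [show (T : PowerSeries L) ^ n = (T : PowerSeries L) ^ j * (T : PowerSeries L) ^ (n - j) by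
        rw [← pow_add, Nat.add_sub_cancel' hjn],
      show (T : PowerSeries L) ^ j * (T : PowerSeries L) ^ (n - j) * (C (q (LambdaRing.gamma j y)) * (W * (↑(T⁻¹) : PowerSeries L)) ^ j) =
        C (q (LambdaRing.gamma j y)) * ((T : PowerSeries L) * (W * (↑(T⁻¹) : PowerSeries L))) ^ j * (T : PowerSeries L) ^ (n - j) by
        rw [mul_pow (T : PowerSeries L) (W * (↑(T⁻¹) : PowerSeries L))]; ring,
      show (T : PowerSeries L) * (W * (↑(T⁻¹) : PowerSeries L)) = W by rw [mul_left_comm, Units.mul_inv, mul_one],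
      map_mul, map_pow, mul_pow]
    ring
  rw [e']
  refine mul_mem (C_mul_X_pow_mem ?_) (pow_mem ?_ _)
  · have hy0 : P.aug y = 0 := by rw [hy, map_sub, map_natCast, hn, Lambda.aug_toNat he, sub_self]
    have h1 : q (LambdaRing.gamma j y) ∈ Fil P q u j := map_mem (gamma_mem hy0 j)
    have h2 : w ^ j ∈ Fil P q u 0 := by rw [← pow_mul]; exact pow_mem0 _
    exact Fil_mul0 h1 h2
  · rw [hT]
    refine add_mem (Subring.one_mem _) ?_
    simpa [w] using C_mul_X_pow_mem (j := 1) (pow_sub_one_mem (P := P) (q := q) (u := u) a)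

variable (hgen : AddSubgroup.closure {z | ∃ (a : ℕ), ∃ e ∈ P.pos, z = q e * u ^ a} = ⊤)

include hgen

theorem gammaSeries_mem {z : L} (hz : Q.aug z = 0) : gammaSeries z ∈ series P q u := by
  have hinv : ∀ x : L, gammaSeries (-x) * gammaSeries x = 1 := fun x => by
    rw [← gammaSeries_add, neg_add_cancel, gammaSeries_zero]
  let S : AddSubgroup L :=
    { carrier := {x | gammaSeries (x - (Q.aug x : L)) ∈ series P q u}
      zero_mem' := by
        show gammaSeries ((0 : L) - (Q.aug 0 : L)) ∈ series P q u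
        rw [map_zero, Int.cast_zero, sub_zero, gammaSeries_zero]
        exact Subring.one_mem _
      add_mem' := fun {x y} hx hy => by
        show gammaSeries (x + y - (Q.aug (x + y) : L)) ∈ series P q u
        rw [map_add, Int.cast_add, add_sub_add_comm, gammaSeries_add]
        exact mul_mem hx hy
      neg_mem' := fun {x} hx => by
        show gammaSeries (-x - (Q.aug (-x) : L)) ∈ series P q u
        rw [map_neg, Int.cast_neg, show -x - -(Q.aug x : L) = -(x - (Q.aug x : L)) by ring]
        exact series_inv hx (constantCoeff_gammaSeries _) ((mul_comm _ _).trans (hinv _)) }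
  have : S = ⊤ := by
    rw [eq_top_iff, ← hgen, AddSubgroup.closure_le]
    rintro _ ⟨a, e, he, rfl⟩
    show gammaSeries (q e * u ^ a - (Q.aug (q e * u ^ a) : L)) ∈ series P q u
    rw [map_mul, haug, hu, mul_one, ← Lambda.aug_toNat he, Int.cast_natCast]
    exact gammaSeries_twist_mem Q haug hgam hu hpos htw he a
  have hz' : z ∈ S := this ▸ AddSubgroup.mem_top z
  change gammaSeries (z - (Q.aug z : L)) ∈ series P q u at hz'
  rwa [hz, Int.cast_zero, sub_zero] at hz'

theorem gammaFiltration_le (k : ℕ) : gammaFiltration Q k ≤ Fil P q u k := by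
  have htop : ∀ z : L, z ∈ Fil P q u 0 := fun z => by
    have hz : z ∈ AddSubgroup.closure {z | ∃ (a : ℕ), ∃ e ∈ P.pos, z = q e * u ^ a} := hgen ▸ AddSubgroup.mem_top z
    induction hz using AddSubgroup.closure_induction with
    | mem x hx =>
      obtain ⟨a, e, -, rfl⟩ := hx
      exact Fil_mul0 (map_mem (k := 0) (by simp [gammaFiltration_zero])) (pow_mem0 a)
    | zero => exact zero_mem _
    | add x y _ _ hx hy => exact add_mem hx hy
    | neg x _ hx => exact neg_mem hx
  rcases eq_or_ne k 0 with rfl | hk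
  · exact fun z _ => htop z
  rw [gammaFiltration_of_ne_zero Q hk, AddSubgroup.closure_le]
  rintro _ ⟨l, hl, hsum, rfl⟩
  refine Fil_anti hsum ?_
  clear hsum
  induction l with
  | nil => exact htop _
  | cons x l ih =>
    rw [List.map_cons, List.map_cons, List.prod_cons, List.sum_cons, ← coeff_gammaSeries]
    exact Fil_mul (gammaSeries_mem Q haug hgam hu hpos htw hgen (hl x List.mem_cons_self) x.1)
      (ih fun p hp => hl p (List.mem_cons_of_mem _ hp))

end Groth.Agent.Lambda7
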